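import Mathlib

/-! General counting lemmas for involutions and T.I. sets. -/

set_option autoImplicit false
set_option linter.unusedSectionVars false
open Finset Classical

namespace Cfsg.Agent.J3T
noncomputable section
variable {X : Type*} [Group X] [Fintype X]

/-- centralizer of one element -/
abbrev Cz (y : X) : Subgroup X := Subgroup.centralizer {y}

theorem mem_Cz {y g : X} : g ∈ Cz y ↔ g * y = y * g := by
  rw [Subgroup.mem_centralizer_iff]; simp [eq_comm]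

theorem mem_Cz' {y g : X} : g ∈ Cz y ↔ g * y * g⁻¹ = y := by
  rw [mem_Cz, mul_inv_eq_iff_eq_mul]

theorem mem_Cz_comm {y g : X} : g ∈ Cz y ↔ y ∈ Cz g := by
  rw [mem_Cz, mem_Cz, eq_comm]

theorem self_mem_Cz (y : X) : y ∈ Cz y := mem_Cz.2 rfl

/-- the finset of a subgroup -/
def fs (S : Subgroup X) : Finset X := univ.filter (· ∈ S)

@[simp] theorem mem_fs {S : Subgroup X} {g : X} : g ∈ fs S ↔ g ∈ S := by simp [fs]

theorem card_fs (S : Subgroup X) : (fs S).card = Nat.card S := by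
  rw [fs, Nat.card_eq_fintype_card, Fintype.card_subtype]

/-- involutions -/
def Inv (X : Type*) [Group X] [Fintype X] : Finset X := univ.filter fun s => s * s = 1 ∧ s ≠ 1

@[simp] theorem mem_Inv {s : X} : s ∈ Inv X ↔ s * s = 1 ∧ s ≠ 1 := by simp [Inv]

theorem Inv.inv {s : X} (h : s ∈ Inv X) : s⁻¹ = s := inv_eq_of_mul_eq_one_right (mem_Inv.1 h).1

theorem Inv.order {s : X} (h : s ∈ Inv X) : orderOf s = 2 :=
  orderOf_eq_prime (by rw [pow_two]; exact (mem_Inv.1 h).1) (mem_Inv.1 h).2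

theorem Inv.of_order {s : X} (h : orderOf s = 2) : s ∈ Inv X := by
  refine mem_Inv.2 ⟨by rw [← pow_two, ← h, pow_orderOf_eq_one], ?_⟩
  rintro rfl; simp at h

theorem Inv.conj {s : X} (h : s ∈ Inv X) (g : X) : g * s * g⁻¹ ∈ Inv X := by
  obtain ⟨h1, h2⟩ := mem_Inv.1 h
  refine mem_Inv.2 ⟨?_, ?_⟩
  · calc g * s * g⁻¹ * (g * s * g⁻¹) = g * (s * s) * g⁻¹ := by group
      _ = 1 := by rw [h1]; simp
  · intro h; apply h2
    calc s = g⁻¹ * (g * s * g⁻¹) * g := by group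
      _ = 1 := by rw [h]; simp

theorem orderOf_conj' (g y : X) : orderOf (g * y * g⁻¹) = orderOf y :=
  (MulAut.conj g).orderOf_eq y

theorem conj_mem_zpowers {s y : X} (g : X) (h : s ∈ Subgroup.zpowers y) :
    g * s * g⁻¹ ∈ Subgroup.zpowers (g * y * g⁻¹) := by
  obtain ⟨k, rfl⟩ := h
  exact ⟨k, by simp only [conj_zpow]⟩

theorem conj_mem_zpowers_iff {s y : X} (g : X) :
    g * s * g⁻¹ ∈ Subgroup.zpowers (g * y * g⁻¹) ↔ s ∈ Subgroup.zpowers y := by
  refine ⟨fun h => ?_, conj_mem_zpowers g⟩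
  have := conj_mem_zpowers g⁻¹ h
  simpa [mul_assoc] using this

theorem exists_pow_of_mem_zpowers {s g : X} (h : s ∈ Subgroup.zpowers g) :
    ∃ k, k < orderOf g ∧ g ^ k = s := by
  simpa using (mem_zpowers_iff_mem_range_orderOf).1 h

theorem inv_mem_zpowers {s g : X} (hs : s ∈ Inv X) (h : s ∈ Subgroup.zpowers g) :
    Even (orderOf g) ∧ s = g ^ (orderOf g / 2) := by
  have h2 : 2 ∣ orderOf g := by
    rw [← Inv.order hs]; exact orderOf_dvd_of_mem_zpowers h
  refine ⟨even_iff_two_dvd.2 h2, ?_⟩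
  obtain ⟨k, hk, rfl⟩ := exists_pow_of_mem_zpowers h
  obtain ⟨h1, h3⟩ := mem_Inv.1 hs
  rw [← pow_add, ← orderOf_dvd_iff_pow_eq_one] at h1
  obtain ⟨c, hc⟩ := h1
  have hk0 : k ≠ 0 := by rintro rfl; simp at h3
  have : c = 1 := by
    rcases c with _ | _ | c
    · omega
    · rfl
    · nlinarith
  subst this
  congr 1; omega

theorem half_mem_Inv {g : X} (h : Even (orderOf g)) : g ^ (orderOf g / 2) ∈ Inv X := by
  obtain ⟨k, hk⟩ := h
  have hp := orderOf_pos g
  refine mem_Inv.2 ⟨?_, ?_⟩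
  · rw [← pow_add, show orderOf g / 2 + orderOf g / 2 = orderOf g by omega, pow_orderOf_eq_one]
  · exact pow_ne_one_of_lt_orderOf (by omega) (by omega)

theorem even_split {α : Type*} (S : Finset α) (p : α → X) :
    S.card = ∑ s ∈ Inv X, (S.filter fun a => s ∈ Subgroup.zpowers (p a)).card +
      (S.filter fun a => Odd (orderOf (p a))).card := by
  rw [← card_filter_add_card_filter_not (s := S) (fun a => Even (orderOf (p a)))]
  congr 1
  · rw [card_eq_sum_card_fiberwise (f := fun a => p a ^ (orderOf (p a) / 2)) (t := Inv X)]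
    · refine sum_congr rfl fun s hs => ?_
      congr 1; ext a
      simp only [mem_filter]
      constructor
      · rintro ⟨⟨h1, _⟩, rfl⟩; exact ⟨h1, Subgroup.npow_mem_zpowers _ _⟩
      · rintro ⟨h1, h2⟩
        obtain ⟨h3, h4⟩ := inv_mem_zpowers hs h2
        exact ⟨⟨h1, h3⟩, h4.symm⟩
    · intro a ha
      exact half_mem_Inv (mem_filter.1 ha).2
  · simp only [Nat.not_even_iff_odd]

theorem odd_conj {s t : X} (hs : s * s = 1) (ht : t * t = 1) (h : Odd (orderOf (s * t))) :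
    ∃ k : ℕ, (s * t) ^ k * t * ((s * t) ^ k)⁻¹ = s := by
  obtain ⟨m, hm⟩ := h
  refine ⟨m + 1, ?_⟩
  have hti : t⁻¹ = t := inv_eq_of_mul_eq_one_right ht
  have hsi : s⁻¹ = s := inv_eq_of_mul_eq_one_right hs
  have h1 : t * (s * t)⁻¹ * t⁻¹ = s * t := by
    rw [mul_inv_rev, hti, hsi, ← mul_assoc, ht, one_mul]
  have h2 : t * ((s * t) ^ (m + 1))⁻¹ * t⁻¹ = (s * t) ^ (m + 1) := by
    rw [← inv_pow, ← conj_pow, h1]
  have h3 : (s * t) ^ (m + 1) * (s * t) ^ (m + 1) = s * t := by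
    rw [← pow_add, show m + 1 + (m + 1) = orderOf (s * t) + 1 by omega, pow_succ, pow_orderOf_eq_one,
      one_mul]
  calc (s * t) ^ (m + 1) * t * ((s * t) ^ (m + 1))⁻¹
      = (s * t) ^ (m + 1) * (t * ((s * t) ^ (m + 1))⁻¹ * t⁻¹) * t := by group
    _ = s * t * t := by rw [h2, h3]
    _ = s := by rw [mul_assoc, ht, mul_one]

/-- conjugates of a set under a subgroup -/
def cls (D : Subgroup X) (Θ : Finset X) : Finset X :=
  univ.filter fun y => ∃ g ∈ Θ, ∃ h ∈ D, h * g * h⁻¹ = y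

theorem mem_cls {D : Subgroup X} {Θ : Finset X} {y : X} :
    y ∈ cls D Θ ↔ ∃ g ∈ Θ, ∃ h ∈ D, h * g * h⁻¹ = y := by simp [cls]

theorem mem_cls1 {D : Subgroup X} {g y : X} :
    y ∈ cls D {g} ↔ ∃ h ∈ D, h * g * h⁻¹ = y := by simp [cls]

theorem ti_sum (D M : Subgroup X) (hM : M ≤ D) (Θ : Finset X)
    (hΘ : ∀ g ∈ Θ, ∀ h ∈ D, (h * g * h⁻¹ ∈ Θ ↔ h ∈ M)) (F : X → ℕ)
    (hF : ∀ g ∈ Θ, ∀ h ∈ D, F (h * g * h⁻¹) = F g) :
    (∑ y ∈ cls D Θ, F y) * Nat.card M = Nat.card D * ∑ g ∈ Θ, F g := by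
  have e1 : Nat.card D * ∑ g ∈ Θ, F g = ∑ p ∈ fs D ×ˢ Θ, F (p.1 * p.2 * p.1⁻¹) := by
    rw [sum_product, ← card_fs, ← smul_eq_mul, ← sum_const]
    refine sum_congr rfl fun h hh => sum_congr rfl fun g hg => (hF g hg h (mem_fs.1 hh)).symm
  rw [e1, ← sum_fiberwise_of_maps_to (t := cls D Θ) (g := fun p : X × X => p.1 * p.2 * p.1⁻¹), sum_mul]
  · refine sum_congr rfl fun y hy => ?_
    rw [sum_congr rfl (g := fun _ => F y) (fun p hp => by rw [(mem_filter.1 hp).2]), sum_const,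
      smul_eq_mul, mul_comm]
    congr 1
    obtain ⟨g0, hg0, h0, hh0, rfl⟩ := mem_cls.1 hy
    rw [← card_fs]
    refine card_bij (fun m _ => (h0 * m⁻¹, m * g0 * m⁻¹)) ?_ ?_ ?_
    · intro m hm
      have hm' := mem_fs.1 hm
      refine mem_filter.2 ⟨mem_product.2 ⟨mem_fs.2 (D.mul_mem hh0 (D.inv_mem (hM hm'))),
        (hΘ g0 hg0 m (hM hm')).2 hm'⟩, by group⟩
    · intro a _ b _ h
      have := congrArg Prod.fst h
      simpa using this
    · rintro ⟨h, g⟩ hp
      obtain ⟨hp1, hp2⟩ := mem_filter.1 hp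
      obtain ⟨hh, hg⟩ := mem_product.1 hp1
      have hh' := mem_fs.1 hh
      simp only at hp2 hh' hg
      have e : h⁻¹ * h0 * g0 * (h⁻¹ * h0)⁻¹ = g := by
        calc h⁻¹ * h0 * g0 * (h⁻¹ * h0)⁻¹ = h⁻¹ * (h0 * g0 * h0⁻¹) * h := by group
          _ = g := by rw [← hp2]; group
      refine ⟨h⁻¹ * h0, mem_fs.2 ((hΘ g0 hg0 _ (D.mul_mem (D.inv_mem hh') hh0)).1 (e ▸ hg)), ?_⟩
      rw [e]; congr 1; group
  · rintro ⟨h, g⟩ hp
    obtain ⟨hh, hg⟩ := mem_product.1 hp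
    exact mem_cls.2 ⟨g, hg, h, mem_fs.1 hh, rfl⟩

theorem ti_card (D M : Subgroup X) (hM : M ≤ D) (Θ : Finset X)
    (hΘ : ∀ g ∈ Θ, ∀ h ∈ D, (h * g * h⁻¹ ∈ Θ ↔ h ∈ M)) :
    (cls D Θ).card * Nat.card M = Nat.card D * Θ.card := by
  have := ti_sum D M hM Θ hΘ (fun _ => 1) (fun _ _ _ _ => rfl)
  simpa using this

theorem orbit_card (D : Subgroup X) (t : X) :
    (cls D {t}).card * Nat.card ↥(D ⊓ Cz t) = Nat.card D := by
  have := ti_card D (D ⊓ Cz t) inf_le_left {t} (by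
    intro g hg h hh
    rw [mem_singleton] at hg; subst hg
    rw [mem_singleton, Subgroup.mem_inf, mem_Cz']; simp [hh])
  simpa using this

theorem class_card (t : X) : (cls ⊤ {t}).card * Nat.card (Cz t) = Nat.card X := by
  have := orbit_card ⊤ t
  rwa [top_inf_eq, Subgroup.card_top] at this

theorem dvd_card_of_orbits (D : Subgroup X) (S : Finset X) (k : ℕ)
    (hS : ∀ s ∈ S, ∀ h ∈ D, h * s * h⁻¹ ∈ S) (hk : ∀ s ∈ S, k ∣ (cls D {s}).card) : k ∣ S.card := by
  rw [card_eq_sum_card_image (fun s => cls D {s}) S]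
  refine dvd_sum fun O hO => ?_
  obtain ⟨s, hs, rfl⟩ := mem_image.1 hO
  suffices e : S.filter (fun a => cls D {a} = cls D {s}) = cls D {s} by rw [e]; exact hk s hs
  ext y
  simp only [mem_filter, mem_cls1]
  constructor
  · rintro ⟨_, h2⟩
    have : y ∈ cls D {s} := by rw [← h2]; exact mem_cls1.2 ⟨1, D.one_mem, by simp⟩
    exact mem_cls1.1 this
  · rintro ⟨h, hh, rfl⟩
    refine ⟨hS s hs h hh, ?_⟩
    ext w
    simp only [mem_cls1]
    constructor
    · rintro ⟨k, hk, rfl⟩; exact ⟨k * h, D.mul_mem hk hh, by group⟩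
    · rintro ⟨k, hk, rfl⟩; exact ⟨k * h⁻¹, D.mul_mem hk (D.inv_mem hh), by group⟩

theorem free_dvd (D : Subgroup X) (S : Finset X)
    (hS : ∀ s ∈ S, ∀ h ∈ D, h * s * h⁻¹ ∈ S) (hf : ∀ s ∈ S, ∀ h ∈ D, h * s = s * h → h = 1) :
    Nat.card D ∣ S.card := by
  refine dvd_card_of_orbits D S _ hS fun s hs => ?_
  have h1 := orbit_card D s
  have : D ⊓ Cz s = ⊥ := by
    rw [eq_bot_iff]; intro h hh
    exact hf s hs h hh.1 (mem_Cz.1 hh.2)
  rw [this, Subgroup.card_bot, mul_one] at h1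
  rw [h1]

theorem card_conj_eq {S T : Finset X} (g : X) (h : ∀ a, a ∈ S ↔ g * a * g⁻¹ ∈ T) : S.card = T.card := by
  refine card_bij (fun a _ => g * a * g⁻¹) (fun a ha => (h a).1 ha) (fun a _ b _ e => by simpa using e) ?_
  intro b hb
  refine ⟨g⁻¹ * b * g, (h _).2 (by simpa [mul_assoc] using hb), by simp [mul_assoc]⟩

theorem card_conj_eq2 {S T : Finset (X × X)} (g : X)
    (h : ∀ a b, (a, b) ∈ S ↔ (g * a * g⁻¹, g * b * g⁻¹) ∈ T) : S.card = T.card := by
  refine card_bij (fun a _ => (g * a.1 * g⁻¹, g * a.2 * g⁻¹)) (fun a ha => (h a.1 a.2).1 ha)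
    (fun a _ b _ e => ?_) ?_
  · simp only [Prod.mk.injEq, mul_left_inj, mul_right_inj] at e
    exact Prod.ext e.1 e.2
  · intro b hb
    refine ⟨(g⁻¹ * b.1 * g, g⁻¹ * b.2 * g), (h _ _).2 (by simpa [mul_assoc] using hb), by simp [mul_assoc]⟩

theorem sub_card_conj {S T : Subgroup X} (g : X) (h : ∀ a, a ∈ S ↔ g * a * g⁻¹ ∈ T) :
    Nat.card S = Nat.card T := by
  rw [← card_fs, ← card_fs]; exact card_conj_eq g (by simpa using h)

theorem mem_Cz_conj {y a : X} (g : X) : g * a * g⁻¹ ∈ Cz (g * y * g⁻¹) ↔ a ∈ Cz y := by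
  rw [mem_Cz, mem_Cz]
  constructor
  · intro h
    calc a * y = g⁻¹ * (g * a * g⁻¹ * (g * y * g⁻¹)) * g := by group
      _ = y * a := by rw [h]; group
  · intro h
    calc g * a * g⁻¹ * (g * y * g⁻¹) = g * (a * y) * g⁻¹ := by group
      _ = _ := by rw [h]; group

theorem card_Cz_conj (g y : X) : Nat.card (Cz (g * y * g⁻¹)) = Nat.card (Cz y) :=
  (sub_card_conj g fun _ => (mem_Cz_conj g).symm).symm

theorem mem_Inv_conj {s : X} (g : X) : g * s * g⁻¹ ∈ Inv X ↔ s ∈ Inv X := by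
  refine ⟨fun h => ?_, fun h => Inv.conj h g⟩
  simpa [mul_assoc] using Inv.conj h g⁻¹

/-- number of involutions inverting `y` -/
def ninv (y : X) : ℕ := ((Inv X).filter fun s => s * y * s = y⁻¹).card

theorem ninv_conj (g y : X) : ninv (g * y * g⁻¹) = ninv y := by
  refine (card_conj_eq g fun a => ?_).symm
  simp only [mem_filter, mem_Inv_conj]
  refine and_congr_right fun _ => ?_
  constructor
  · intro h
    calc g * a * g⁻¹ * (g * y * g⁻¹) * (g * a * g⁻¹) = g * (a * y * a) * g⁻¹ := by group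
      _ = _ := by rw [h]; group
  · intro h
    calc a * y * a = g⁻¹ * (g * a * g⁻¹ * (g * y * g⁻¹) * (g * a * g⁻¹)) * g := by group
      _ = _ := by rw [h]; group

/-- elements of odd order -/
def Od (X : Type*) [Group X] [Fintype X] : Finset X := univ.filter fun g => Odd (orderOf g)

@[simp] theorem mem_Od {g : X} : g ∈ Od X ↔ Odd (orderOf g) := by simp [Od]

def n1 (z : X) : ℕ := (univ.filter fun g : X => z ∈ Subgroup.zpowers g).card
def n2 (z : X) : ℕ := ((Inv X ×ˢ Inv X).filter fun p : X × X => z ∈ Subgroup.zpowers (p.1 * p.2)).card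

section OneClass
variable {z : X} (hz : z ∈ Inv X) (h1 : ∀ s ∈ Inv X, ∃ g : X, g * s * g⁻¹ = z)
include hz h1

theorem card_Inv : (Inv X).card * Nat.card (Cz z) = Nat.card X := by
  rw [← class_card z]; congr 2; ext s
  rw [mem_cls1]
  constructor
  · intro hs; obtain ⟨g, rfl⟩ := h1 s hs; exact ⟨g⁻¹, trivial, by group⟩
  · rintro ⟨g, _, rfl⟩; exact Inv.conj hz g

omit hz in
theorem class_eq : Nat.card X = (Inv X).card * n1 z + (Od X).card := by
  have := even_split (univ : Finset X) id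
  rw [card_univ, ← Nat.card_eq_fintype_card] at this
  rw [this]; congr 1
  rw [← smul_eq_mul, ← sum_const]
  refine sum_congr rfl fun s hs => ?_
  obtain ⟨g, rfl⟩ := h1 s hs
  refine card_conj_eq g fun a => ?_
  simp [conj_mem_zpowers_iff]

omit hz in
theorem pair_eq : (Inv X).card * (Inv X).card = (Inv X).card * n2 z + ∑ y ∈ Od X, ninv y := by
  have := even_split (Inv X ×ˢ Inv X) (fun p : X × X => p.1 * p.2)
  rw [card_product] at this
  rw [this]; congr 1
  · rw [← smul_eq_mul, ← sum_const]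
    refine sum_congr rfl fun s hs => ?_
    obtain ⟨g, rfl⟩ := h1 s hs
    refine card_conj_eq2 g fun a b => ?_
    simp only [mem_filter, mem_product, mem_Inv_conj]
    rw [show g * a * g⁻¹ * (g * b * g⁻¹) = g * (a * b) * g⁻¹ by group, conj_mem_zpowers_iff]
  · rw [card_eq_sum_card_fiberwise (f := fun p : X × X => p.1 * p.2) (t := Od X)]
    · refine sum_congr rfl fun y hy => ?_
      refine card_bij (fun p _ => p.1) ?_ ?_ ?_
      · rintro ⟨a, b⟩ hp
        simp only [mem_filter, mem_product] at hp ⊢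
        obtain ⟨⟨⟨ha, hb⟩, _⟩, rfl⟩ := hp
        refine ⟨ha, ?_⟩
        rw [← mul_assoc, (mem_Inv.1 ha).1, one_mul, mul_inv_rev, Inv.inv ha, Inv.inv hb]
      · rintro ⟨a, b⟩ hp ⟨c, d⟩ hq e
        simp only [mem_filter, mem_product] at hp hq e
        subst e
        have := hp.2.trans hq.2.symm
        rw [mul_left_cancel this]
      · intro s hs
        obtain ⟨hs1, hs2⟩ := mem_filter.1 hs
        have hss := (mem_Inv.1 hs1).1
        refine ⟨(s, s * y), ?_, rfl⟩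
        have e : s * (s * y) = y := by rw [← mul_assoc, hss, one_mul]
        simp only [mem_filter, mem_product, e, hs1, true_and, and_true]
        refine ⟨mem_Inv.2 ⟨?_, ?_⟩, mem_Od.1 hy⟩
        · rw [← mul_assoc, hs2, inv_mul_cancel]
        · intro h
          have : y = s := by rw [← e, h, mul_one]
          have h3 := mem_Od.1 hy
          rw [this, Inv.order hs1] at h3
          exact absurd h3 (by decide)
    · intro p hp
      exact mem_Od.2 (mem_filter.1 hp).2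

end OneClass

theorem ninv_one : ninv (1 : X) = (Inv X).card := by
  unfold ninv; congr 1
  refine filter_true_of_mem fun s hs => ?_
  simpa using (mem_Inv.1 hs).1

theorem odd_order_of_mem {D : Subgroup X} (hD : Odd (Nat.card D)) {d : X} (hd : d ∈ D) :
    Odd (orderOf d) := Odd.of_dvd_nat hD (Subgroup.orderOf_dvd_natCard D hd)

theorem not_mem_of_odd {D : Subgroup X} (hD : Odd (Nat.card D)) {s : X} (hs : s ∈ Inv X) : s ∉ D := by
  intro h
  have := odd_order_of_mem hD h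
  rw [Inv.order hs] at this
  exact absurd this (by decide)

theorem odd_card_of_no_inv {D : Subgroup X} (h : ∀ s ∈ Inv X, s ∉ D) : Odd (Nat.card D) := by
  by_contra h2
  rw [Nat.not_odd_iff_even, even_iff_two_dvd] at h2
  haveI : Fact (Nat.Prime 2) := ⟨Nat.prime_two⟩
  obtain ⟨g, hg⟩ := exists_prime_orderOf_dvd_card' 2 h2
  exact h g (Inv.of_order (by rw [Subgroup.orderOf_coe, hg])) g.2

theorem exists_order_of_dvd {D : Subgroup X} {p : ℕ} (hp : p.Prime) (h : p ∣ Nat.card D) :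
    ∃ g ∈ D, orderOf g = p := by
  haveI : Fact (Nat.Prime p) := ⟨hp⟩
  obtain ⟨g, hg⟩ := exists_prime_orderOf_dvd_card' p h
  exact ⟨g, g.2, by rw [Subgroup.orderOf_coe, hg]⟩

/-- the set of elements of an odd order group inverted by an involution normalizing it -/
theorem inverted_card {D : Subgroup X} (hD : Odd (Nat.card D)) {t : X} (ht : t ∈ Inv X)
    (hn : ∀ d ∈ D, t * d * t ∈ D) :
    ((fs D).filter fun d => t * d * t = d⁻¹).card * Nat.card ↥(D ⊓ Cz t) = Nat.card D := by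
  rw [← orbit_card D t]; congr 1
  have htt := (mem_Inv.1 ht).1
  refine card_bij (fun d _ => d * t) ?_ (fun a _ b _ e => by simpa using e) ?_
  · intro d hd
    obtain ⟨hd1, hd2⟩ := mem_filter.1 hd
    have hd1 := mem_fs.1 hd1
    have e : d * t * t = d := by rw [mul_assoc, htt, mul_one]
    have hs : d * t * (d * t) = 1 := by
      calc d * t * (d * t) = d * (t * d * t) := by group
        _ = 1 := by rw [hd2, mul_inv_cancel]
    obtain ⟨k, hk⟩ := odd_conj hs htt (by rw [e]; exact odd_order_of_mem hD hd1)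
    rw [e] at hk
    exact mem_cls1.2 ⟨_, D.pow_mem hd1 k, hk⟩
  · intro s hs
    obtain ⟨h, hh, rfl⟩ := mem_cls1.1 hs
    refine ⟨h * (t * h⁻¹ * t), mem_filter.2 ⟨mem_fs.2 (D.mul_mem hh (hn _ (D.inv_mem hh))), ?_⟩, ?_⟩
    · have hti := Inv.inv ht
      calc t * (h * (t * h⁻¹ * t)) * t = t * h * t * h⁻¹ * (t * t) := by group
        _ = t⁻¹ * h * t⁻¹ * h⁻¹ := by rw [htt, hti, mul_one]
        _ = _ := by group
    · calc h * (t * h⁻¹ * t) * t = h * t * h⁻¹ * (t * t) := by group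
        _ = _ := by rw [htt, mul_one]

theorem fpf_inverts {D : Subgroup X} (hD : Odd (Nat.card D)) {t : X} (ht : t ∈ Inv X)
    (hn : ∀ d ∈ D, t * d * t ∈ D) (hb : D ⊓ Cz t = ⊥) : ∀ d ∈ D, t * d * t = d⁻¹ := by
  have := inverted_card hD ht hn
  rw [hb, Subgroup.card_bot, mul_one, ← card_fs, card_filter_eq_iff] at this
  intro d hd; exact this d (mem_fs.2 hd)

theorem comm_of_inverts {D : Subgroup X} {t : X} (ht : t * t = 1)
    (h : ∀ d ∈ D, t * d * t = d⁻¹) {a b : X} (ha : a ∈ D) (hb : b ∈ D) : a * b = b * a := by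
  have h1 := h _ (D.mul_mem ha hb)
  have : t * (a * b) * t = (t * a * t) * (t * b * t) := by
    calc t * (a * b) * t = t * a * (t * t) * b * t := by rw [ht]; group
      _ = _ := by group
  rw [this, h a ha, h b hb, ← mul_inv_rev] at h1
  exact (inv_injective h1).symm

theorem norm_Cz_of_inverts {y s : X} (hs : s * s = 1) (h : s * y * s = y⁻¹) {d : X} (hd : d ∈ Cz y) :
    s * d * s ∈ Cz y := by
  have hsi : s⁻¹ = s := inv_eq_of_mul_eq_one_right hs
  have h2 : s * d * s⁻¹ ∈ Cz (s * y * s⁻¹) := (mem_Cz_conj s).2 hd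
  rw [hsi, h] at h2
  rw [mem_Cz_comm] at h2 ⊢
  simpa using (Cz _).inv_mem h2

theorem ninv_mul {y s : X} (hC : Odd (Nat.card (Cz y))) (hs : s ∈ Inv X) (h : s * y * s = y⁻¹) :
    ninv y * Nat.card ↥(Cz y ⊓ Cz s) = Nat.card (Cz y) := by
  rw [← orbit_card (Cz y) s]; congr 1
  unfold ninv; congr 1; ext s'
  rw [mem_filter, mem_cls1]
  have hss := (mem_Inv.1 hs).1
  constructor
  · rintro ⟨h1, h2⟩
    have h11 := (mem_Inv.1 h1).1
    have hm : s' * s ∈ Cz y := by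
      rw [mem_Cz]
      have e1 : s * y = y⁻¹ * s := by rw [← h, mul_assoc, hss, mul_one]
      have e2 : s' * y⁻¹ = y * s' := by
        rw [← h2, ← mul_assoc, ← mul_assoc, h11, one_mul]
      rw [mul_assoc, e1, ← mul_assoc, e2, mul_assoc]
    obtain ⟨k, hk⟩ := odd_conj h11 hss (odd_order_of_mem hC hm)
    exact ⟨_, (Cz y).pow_mem hm k, hk⟩
  · rintro ⟨d, hd, rfl⟩
    refine ⟨Inv.conj hs d, ?_⟩
    have e1 : d⁻¹ * y * d = y := by rw [mul_assoc, ← mem_Cz.1 hd]; group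
    have e2 : d * y⁻¹ * d⁻¹ = y⁻¹ := by rw [← conj_inv, mem_Cz'.1 hd]
    calc d * s * d⁻¹ * y * (d * s * d⁻¹) = d * (s * (d⁻¹ * y * d) * s) * d⁻¹ := by group
      _ = _ := by rw [e1, h, e2]

theorem ninv_pos {y : X} (h : ninv y ≠ 0) : ∃ s ∈ Inv X, s * y * s = y⁻¹ := by
  obtain ⟨s, hs⟩ := card_pos.1 (Nat.pos_of_ne_zero h)
  exact ⟨s, (mem_filter.1 hs).1, (mem_filter.1 hs).2⟩

/-- an element of prime order `q` is conjugate into any subgroup of index prime to `q` -/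
theorem conj_into {A : Subgroup X} {q : ℕ} (hq : q.Prime) (hA : ¬ q ∣ A.index) {c : X} {k : ℕ}
    (hc : c ^ (q ^ k) = 1) : ∃ g : X, g * c * g⁻¹ ∈ A := by
  haveI : Fact q.Prime := ⟨hq⟩
  have hp : IsPGroup q (Subgroup.zpowers c) := by
    rw [IsPGroup.iff_card]
    obtain ⟨j, _, hj⟩ := (Nat.dvd_prime_pow hq).1 (orderOf_dvd_of_pow_eq_one hc)
    exact ⟨j, by rw [Nat.card_zpowers, hj]⟩
  have hne : ¬ q ∣ Nat.card (X ⧸ A) := hA
  obtain ⟨w, hw⟩ := hp.nonempty_fixed_point_of_prime_not_dvd_card (X ⧸ A) hne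
  obtain ⟨g, rfl⟩ := QuotientGroup.mk_surjective w
  have := hw ⟨c, Subgroup.mem_zpowers c⟩
  change ((c * g : X) : X ⧸ A) = g at this
  rw [QuotientGroup.eq] at this
  refine ⟨g⁻¹, ?_⟩
  have h2 := A.inv_mem this
  simpa [mul_assoc] using h2

/-- a self-centralizing (elementwise) subgroup is a Hall subgroup -/
theorem hall_of_selfcent {A : Subgroup X} (hA : ∀ c ∈ A, c ≠ 1 → Cz c = A) :
    Nat.Coprime (Nat.card A) A.index := by
  rw [Nat.coprime_iff_gcd_eq_one, Nat.eq_one_iff_not_exists_prime_dvd]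
  intro q hq hd
  haveI : Fact q.Prime := ⟨hq⟩
  obtain ⟨c, hc, hco⟩ := exists_order_of_dvd hq (hd.trans (Nat.gcd_dvd_left _ _))
  have hc1 : c ≠ 1 := by rintro rfl; simp at hco; exact hq.one_lt.ne hco
  have hp : IsPGroup q (Subgroup.zpowers c) := IsPGroup.of_card (n := 1) (by rw [Nat.card_zpowers, hco, pow_one])
  obtain ⟨Q, hQ⟩ := hp.exists_le_sylow
  haveI : Nontrivial (Q : Subgroup X) := ⟨⟨⟨c, hQ (Subgroup.mem_zpowers c)⟩, 1, fun h => hc1 (congrArg Subtype.val h)⟩⟩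
  haveI := Q.isPGroup'.center_nontrivial
  obtain ⟨⟨w, hw⟩, hw1⟩ := exists_ne (1 : Subgroup.center (Q : Subgroup X))
  have hw1' : (w : X) ≠ 1 := fun h => hw1 (Subtype.ext (Subtype.ext h))
  have hwc : ∀ g ∈ (Q : Subgroup X), g ∈ Cz (w : X) := fun g hg =>
    mem_Cz.2 (congrArg Subtype.val (Subgroup.mem_center_iff.1 hw ⟨g, hg⟩))
  have hwA : (w : X) ∈ A := by
    rw [← hA c hc hc1, mem_Cz_comm]; exact hwc c (hQ (Subgroup.mem_zpowers c))
  have hQA : (Q : Subgroup X) ≤ A := by rw [← hA w hwA hw1']; exact hwc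
  exact Q.not_dvd_index ((hd.trans (Nat.gcd_dvd_right _ _)).trans (Subgroup.index_dvd_of_le hQA))

theorem mem_normalizer_iff' {A : Subgroup X} {h : X} :
    h ∈ Subgroup.normalizer (A : Set X) ↔ ∀ a ∈ A, h * a * h⁻¹ ∈ A := by
  refine ⟨fun hh a ha => (Subgroup.mem_normalizer_iff.1 hh a).1 ha, fun hh => ?_⟩
  exact Subgroup.mem_normalizer_fintype hh

/-- T.I. property of an elementwise self-centralizing subgroup -/
theorem ti_of_selfcent {A : Subgroup X} (hA : ∀ c ∈ A, c ≠ 1 → Cz c = A) :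
    ∀ g ∈ (fs A).erase 1, ∀ h ∈ (⊤ : Subgroup X),
      (h * g * h⁻¹ ∈ (fs A).erase 1 ↔ h ∈ Subgroup.normalizer (A : Set X)) := by
  intro g hg h _
  obtain ⟨hg1, hg2⟩ := mem_erase.1 hg
  have hg2 := mem_fs.1 hg2
  constructor
  · intro hh
    obtain ⟨hh1, hh2⟩ := mem_erase.1 hh
    refine mem_normalizer_iff'.2 fun a ha => ?_
    rw [← hA _ (mem_fs.1 hh2) hh1, mem_Cz_conj, hA g hg2 hg1]; exact ha
  · intro hh
    refine mem_erase.2 ⟨fun e => hg1 ?_, mem_fs.2 (mem_normalizer_iff'.1 hh g hg2)⟩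
    simpa using e

end
end Cfsg.Agent.J3T
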